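import Groth.Prelude.Def_W4stkfunctorsequivSib
import Mathlib.CategoryTheory.Triangulated.TStructure.Induced
import Mathlib.Algebra.Homology.DerivedCategory.SingleTriangle
import Mathlib.Algebra.Homology.DerivedCategory.FullyFaithful
import Mathlib.Algebra.Homology.HomologicalComplexAbelian
import Mathlib.CategoryTheory.Triangulated.Triangulated

set_option autoImplicit false

universe w v u

open CategoryTheory CategoryTheory.Limits CategoryTheory.Pretriangulated DerivedCategory

namespace Groth.Agent.Sib9

variable {A : Type u} [Category.{v} A] [Abelian A] [HasDerivedCategory.{w} A]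

/-- Q of a complex concentrated in one degree. -/
noncomputable abbrev sQ (n : ℤ) (X : A) : DerivedCategory A :=
  (singleFunctor A n).obj X

theorem dc_cover (K : DerivedCategory A) (b : ℤ) [K.IsLE b] :
    ∃ (N : A) (p : sQ b N ⟶ K) (C : DerivedCategory A) (g : K ⟶ C) (h : C ⟶ (sQ b N)⟦(1 : ℤ)⟧),
      Triangle.mk p g h ∈ distTriang _ ∧ C.IsLE (b - 1) := by
  obtain ⟨L, hL, ⟨e⟩⟩ := K.exists_iso_Q_obj_of_isLE b
  have hd : L.d b (b + 1) = 0 := (L.isZero_of_isStrictlyLE b (b + 1) (by omega)).eq_of_tgt _ _
  let φ : (HomologicalComplex.single A (ComplexShape.up ℤ) b).obj (L.X b) ⟶ L :=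
    HomologicalComplex.mkHomFromSingle (𝟙 _) (fun j hj => by
      simp only [ComplexShape.up_Rel] at hj
      subst hj
      simp [hd])
  have : Mono φ := by
    have : ∀ i, Mono (φ.f i) := fun i => by
      by_cases hi : i = b
      · subst hi; simp only [φ, HomologicalComplex.mkHomFromSingle_f]; infer_instance
      · exact ⟨fun _ _ _ => (HomologicalComplex.isZero_single_obj_X _ b _ i hi).eq_of_tgt _ _⟩
    exact HomologicalComplex.mono_of_mono_f φ this
  let S : ShortComplex (CochainComplex A ℤ) := ShortComplex.mk φ (cokernel.π φ) (cokernel.condition φ)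
  have hS : S.ShortExact :=
    { exact := ShortComplex.exact_of_g_is_cokernel _ (cokernelIsCokernel φ) }
  have hC : CochainComplex.IsStrictlyLE S.X₃ (b - 1) := by
    rw [CochainComplex.isStrictlyLE_iff]
    intro i hi
    have he := (hS.map_of_exact (HomologicalComplex.eval A (ComplexShape.up ℤ) i))
    have : Epi (S.g.f i) := he.epi_g
    have : Epi (S.f.f i) := by
      by_cases hib : i = b
      · subst hib; simp only [S, φ, HomologicalComplex.mkHomFromSingle_f]; infer_instance
      · exact ⟨fun _ _ _ => (L.isZero_of_isStrictlyLE b i (by omega)).eq_of_src _ _⟩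
    rw [IsZero.iff_id_eq_zero, ← cancel_epi (S.g.f i), ← cancel_epi (S.f.f i)]
    rw [← HomologicalComplex.comp_f_assoc, S.zero]
    simp
  refine ⟨L.X b, Q.map φ ≫ e.inv, Q.obj S.X₃, e.hom ≫ Q.map S.g, (triangleOfSES hS).mor₃,
    isomorphic_distinguished _ (triangleOfSES_distinguished hS) _
      (Triangle.isoMk _ _ (Iso.refl _) e (Iso.refl _) ?_ ?_ ?_), inferInstance⟩
  · exact (Category.assoc _ _ _).trans ((congrArg (Q.map φ ≫ ·) e.inv_hom_id).trans
      ((Category.comp_id _).trans (Category.id_comp _).symm))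
  · exact Category.comp_id _
  · exact ((congrArg (_ ≫ ·) ((shiftFunctor (DerivedCategory A) (1 : ℤ)).map_id _)).trans
      (Category.comp_id _)).trans (Category.id_comp _).symm

theorem dc_proj (K : DerivedCategory A) (a : ℤ) [K.IsGE a] :
    ∃ (X : A) (R : DerivedCategory A) (f : R ⟶ K) (p : K ⟶ sQ a X) (h : sQ a X ⟶ R⟦(1 : ℤ)⟧),
      Triangle.mk f p h ∈ distTriang _ ∧ R.IsGE (a + 1) := by
  obtain ⟨L, hL, ⟨e⟩⟩ := K.exists_iso_Q_obj_of_isGE a
  let φ : L ⟶ (HomologicalComplex.single A (ComplexShape.up ℤ) a).obj (L.X a) :=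
    HomologicalComplex.mkHomToSingle (𝟙 _) (fun j hj => by
      simp only [ComplexShape.up_Rel] at hj
      exact (L.isZero_of_isStrictlyGE a j (by omega)).eq_of_src _ _)
  have : Epi φ := by
    have : ∀ i, Epi (φ.f i) := fun i => by
      by_cases hi : i = a
      · subst hi; simp only [φ, HomologicalComplex.mkHomToSingle_f]; infer_instance
      · exact ⟨fun _ _ _ => (HomologicalComplex.isZero_single_obj_X _ a _ i hi).eq_of_src _ _⟩
    exact HomologicalComplex.epi_of_epi_f φ this
  let S : ShortComplex (CochainComplex A ℤ) := ShortComplex.mk (kernel.ι φ) φ (kernel.condition φ)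
  have hS : S.ShortExact :=
    { exact := ShortComplex.exact_of_f_is_kernel _ (kernelIsKernel φ) }
  have hR : CochainComplex.IsStrictlyGE S.X₁ (a + 1) := by
    rw [CochainComplex.isStrictlyGE_iff]
    intro i hi
    have he := (hS.map_of_exact (HomologicalComplex.eval A (ComplexShape.up ℤ) i))
    have : Mono (S.f.f i) := he.mono_f
    have : Mono (S.g.f i) := by
      by_cases hib : i = a
      · subst hib; simp only [S, φ, HomologicalComplex.mkHomToSingle_f]; infer_instance
      · exact ⟨fun _ _ _ => (L.isZero_of_isStrictlyGE a i (by omega)).eq_of_tgt _ _⟩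
    rw [IsZero.iff_id_eq_zero, ← cancel_mono (S.f.f i), ← cancel_mono (S.g.f i)]
    rw [Category.assoc, ← HomologicalComplex.comp_f, S.zero]
    simp
  refine ⟨L.X a, Q.obj S.X₁, Q.map S.f ≫ e.inv, e.hom ≫ Q.map φ, (triangleOfSES hS).mor₃,
    isomorphic_distinguished _ (triangleOfSES_distinguished hS) _
      (Triangle.isoMk _ _ (Iso.refl _) e (Iso.refl _) ?_ ?_ ?_), inferInstance⟩
  · exact (Category.assoc _ _ _).trans ((congrArg (Q.map S.f ≫ ·) e.inv_hom_id).trans
      ((Category.comp_id _).trans (Category.id_comp _).symm))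
  · exact Category.comp_id _
  · exact ((congrArg (_ ≫ ·) ((shiftFunctor (DerivedCategory A) (1 : ℤ)).map_id _)).trans
      (Category.comp_id _)).trans (Category.id_comp _).symm

theorem dc_epi {X' X : A} (q : X' ⟶ X) [Epi q] (n : ℤ) :
    ∃ (C : DerivedCategory A) (g : sQ n X ⟶ C) (h : C ⟶ (sQ n X')⟦(1 : ℤ)⟧),
      Triangle.mk ((singleFunctor A n).map q) g h ∈ distTriang _ ∧ C.IsLE (n - 1) := by
  let S : ShortComplex A := ShortComplex.mk (kernel.ι q) q (kernel.condition q)
  have hS : S.ShortExact := { exact := ShortComplex.exact_of_f_is_kernel _ (kernelIsKernel q) }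
  have hS' := hS.map_of_exact (HomologicalComplex.single A (ComplexShape.up ℤ) n)
  refine ⟨(triangleOfSES hS').rotate.obj₃, (triangleOfSES hS').mor₃, (triangleOfSES hS').rotate.mor₃,
    rot_of_distTriang _ (triangleOfSES_distinguished hS'), ?_⟩
  exact TStructure.t.isLE_shift (sQ n (kernel q)) n 1 (n - 1)

theorem dc_kill {N : A} {b : ℤ} {C : DerivedCategory A} [C.IsLE (b - 1)] (f : sQ b N ⟶ C) :
    ∃ (N' : A) (q : N' ⟶ N), Epi q ∧ (singleFunctor A b).map q ≫ f = 0 := by
  obtain ⟨L, hL, ⟨e⟩⟩ := C.exists_iso_Q_obj_of_isLE (b - 1)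
  obtain ⟨Y, hY, s, hs, g, hfac⟩ := right_fac_of_isStrictlyLE
    (X := (HomologicalComplex.single A (ComplexShape.up ℤ) b).obj N) (f ≫ e.hom) b
  have : QuasiIso s := (DerivedCategory.isIso_Q_map_iff_quasiIso (φ := s)).1 hs
  let m : (HomologicalComplex.single A (ComplexShape.up ℤ) b).obj (Y.X b) ⟶ Y :=
    HomologicalComplex.mkHomFromSingle (𝟙 _) (fun j hj => by
      simp only [ComplexShape.up_Rel] at hj
      exact (Y.isZero_of_isStrictlyLE b j (by omega)).eq_of_tgt _ _)
  let q : Y.X b ⟶ N := s.f b ≫ (HomologicalComplex.singleObjXSelf _ b N).hom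
  have hms : m ≫ s = (HomologicalComplex.single A (ComplexShape.up ℤ) b).map q := by
    apply HomologicalComplex.from_single_hom_ext
    simp [m, q, HomologicalComplex.single_map_f_self]
  have hmg : m ≫ g = 0 := by
    apply HomologicalComplex.from_single_hom_ext
    exact (L.isZero_of_isStrictlyLE (b - 1) b (by omega)).eq_of_tgt _ _
  refine ⟨Y.X b, q, ?_, ?_⟩
  · have hd : Y.d b ((ComplexShape.up ℤ).next b) = 0 :=
      (Y.isZero_of_isStrictlyLE b _ (by simp)).eq_of_tgt _ _
    have : IsIso (Y.iCycles b) := Y.isIso_iCycles b _ rfl hd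
    have : IsIso (((HomologicalComplex.single A (ComplexShape.up ℤ) b).obj N).iCycles b) :=
      HomologicalComplex.isIso_iCycles _ b _ rfl (by simp)
    have : IsIso (((HomologicalComplex.single A (ComplexShape.up ℤ) b).obj N).homologyπ b) :=
      HomologicalComplex.isIso_homologyπ _ _ b rfl (by simp)
    have : Epi (HomologicalComplex.cyclesMap s b ≫
        ((HomologicalComplex.single A (ComplexShape.up ℤ) b).obj N).homologyπ b) := by
      rw [← HomologicalComplex.homologyπ_naturality]
      infer_instance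
    have : Epi (HomologicalComplex.cyclesMap s b) := by
      exact (MorphismProperty.epimorphisms A).of_postcomp _
        (((HomologicalComplex.single A (ComplexShape.up ℤ) b).obj N).homologyπ b)
        (MorphismProperty.isomorphisms.infer_property _) this
    have : Epi (Y.iCycles b ≫ s.f b) := by
      rw [← HomologicalComplex.cyclesMap_i]; infer_instance
    have : Epi (s.f b) := epi_of_epi (Y.iCycles b) _
    exact epi_comp _ _
  · rw [← cancel_mono e.hom, Category.assoc, zero_comp]
    refine (congrArg ((singleFunctor A b).map q ≫ ·) hfac).trans ?_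
    have : Q.map m ≫ Q.map s = (singleFunctor A b).map q := by
      rw [← Q.map_comp, hms]; rfl
    rw [← this]
    exact (Category.assoc _ _ _).trans
      ((congrArg (Q.map m ≫ ·) (@IsIso.hom_inv_id_assoc _ _ _ _ (Q.map s) hs _ _)).trans
      ((Q.map_comp _ _).symm.trans (by rw [hmg, Functor.map_zero]; rfl)))

end Groth.Agent.Sib9
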