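import Mathlib.CategoryTheory.Triangulated.Functor
import Mathlib.CategoryTheory.Shift.CommShift

set_option autoImplicit false

universe v v' u u'

open CategoryTheory CategoryTheory.Limits CategoryTheory.Pretriangulated

namespace Groth.Agent.Sib9

variable {T : Type u} [Category.{v} T] {D : Type u'} [Category.{v'} D]

/-- `f` commutes with the comparison morphisms `e` and `e'`. -/
def Comm (F F' : T ⥤ D) {K L : T} (e : F.obj K ⟶ F'.obj K) (e' : F.obj L ⟶ F'.obj L)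
    (f : K ⟶ L) : Prop := F.map f ≫ e' = e ≫ F'.map f

variable {F F' : T ⥤ D}

theorem Comm.comp {K L M : T} {e : F.obj K ⟶ F'.obj K} {e' : F.obj L ⟶ F'.obj L}
    {e'' : F.obj M ⟶ F'.obj M} {f : K ⟶ L} {g : L ⟶ M} (h : Comm F F' e e' f)
    (h' : Comm F F' e' e'' g) : Comm F F' e e'' (f ≫ g) := by
  dsimp [Comm] at *
  rw [Functor.map_comp, Functor.map_comp, Category.assoc, h', ← Category.assoc, h, Category.assoc]

theorem Comm.inv {K L : T} {e : F.obj K ⟶ F'.obj K} {e' : F.obj L ⟶ F'.obj L}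
    {f : K ≅ L} (h : Comm F F' e e' f.hom) : Comm F F' e' e f.inv := by
  dsimp [Comm] at *
  rw [← cancel_epi (F.map f.hom), ← Category.assoc, ← Functor.map_comp, f.hom_inv_id,
    reassoc_of% h, ← Functor.map_comp, f.hom_inv_id]
  simp

variable [HasShift T ℤ] [HasShift D ℤ]

/-- Shift of a comparison morphism. -/
noncomputable def sh (F F' : T ⥤ D) [F.CommShift ℤ] [F'.CommShift ℤ] {K : T}
    (e : F.obj K ⟶ F'.obj K) (n : ℤ) :
    F.obj ((shiftFunctor T n).obj K) ⟶ F'.obj ((shiftFunctor T n).obj K) :=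
  (F.commShiftIso n).hom.app K ≫ (shiftFunctor D n).map e ≫ (F'.commShiftIso n).inv.app K

variable [F.CommShift ℤ] [F'.CommShift ℤ]

instance isIso_sh {K : T} (e : F.obj K ⟶ F'.obj K) [IsIso e] (n : ℤ) : IsIso (sh F F' e n) := by
  unfold sh; infer_instance

theorem Comm.shift {K L : T} {e : F.obj K ⟶ F'.obj K} {e' : F.obj L ⟶ F'.obj L} {f : K ⟶ L}
    (h : Comm F F' e e' f) (n : ℤ) :
    Comm F F' (sh F F' e n) (sh F F' e' n) (f⟦n⟧') := by
  dsimp [Comm, sh] at *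
  simp only [Category.assoc]
  rw [Functor.commShiftIso_hom_naturality_assoc, ← (shiftFunctor D n).map_comp_assoc, h,
    (shiftFunctor D n).map_comp_assoc, Functor.commShiftIso_inv_naturality]

theorem comm_add {K : T} (e : F.obj K ⟶ F'.obj K) (m n p : ℤ) (h : m + n = p) :
    Comm F F' (sh F F' (sh F F' e m) n) (sh F F' e p)
      ((shiftFunctorAdd' T m n p h).inv.app K) := by
  have h₁ := NatTrans.congr_app (congr_arg Iso.hom (F.commShiftIso_add' h)) K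
  have h₂ := NatTrans.congr_app (congr_arg Iso.inv (F'.commShiftIso_add' h)) K
  simp only [Functor.CommShift.isoAdd'_hom_app, Functor.CommShift.isoAdd'_inv_app] at h₁ h₂
  dsimp [Comm, sh]
  rw [h₁, h₂]
  simp only [Functor.map_comp, Category.assoc]
  rw [(reassoc_of% ((shiftFunctorAdd' D m n p h).inv.naturality e).symm)]
  simp [← Functor.map_comp, ← Functor.map_comp_assoc]

variable [Preadditive T] [HasZeroObject T] [∀ n : ℤ, (shiftFunctor T n).Additive]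
  [Pretriangulated T] [Preadditive D] [HasZeroObject D] [∀ n : ℤ, (shiftFunctor D n).Additive]
  [Pretriangulated D] [F.IsTriangulated] [F'.IsTriangulated]

theorem exists_comm₂ (t : Triangle T) (ht : t ∈ distTriang T) (e₁ : F.obj t.obj₁ ⟶ F'.obj t.obj₁)
    (e₃ : F.obj t.obj₃ ⟶ F'.obj t.obj₃) (h : Comm F F' e₃ (sh F F' e₁ 1) t.mor₃) :
    ∃ e₂ : F.obj t.obj₂ ⟶ F'.obj t.obj₂, Comm F F' e₁ e₂ t.mor₁ ∧ Comm F F' e₂ e₃ t.mor₂ ∧
      (IsIso e₁ → IsIso e₃ → IsIso e₂) := by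
  have hc : (F.mapTriangle.obj t).mor₃ ≫ e₁⟦(1 : ℤ)⟧' = e₃ ≫ (F'.mapTriangle.obj t).mor₃ := by
    change (F.map t.mor₃ ≫ (F.commShiftIso (1 : ℤ)).hom.app t.obj₁) ≫ e₁⟦(1 : ℤ)⟧' =
      e₃ ≫ F'.map t.mor₃ ≫ (F'.commShiftIso (1 : ℤ)).hom.app t.obj₁
    dsimp only [Comm, sh] at h
    rw [← cancel_mono ((F'.commShiftIso (1 : ℤ)).inv.app t.obj₁)]
    simpa using h
  obtain ⟨e₂, h₁, h₂⟩ := complete_distinguished_triangle_morphism₂ _ _ (F.map_distinguished t ht)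
    (F'.map_distinguished t ht) e₁ e₃ hc
  refine ⟨e₂, h₁, h₂, fun i₁ i₃ => ?_⟩
  exact isIso₂_of_isIso₁₃ (Triangle.homMk (F.mapTriangle.obj t) (F'.mapTriangle.obj t) e₁ e₂ e₃
    h₁ h₂ hc) (F.map_distinguished t ht) (F'.map_distinguished t ht) i₁ i₃

theorem exists_comm₃ (t : Triangle T) (ht : t ∈ distTriang T) (e₁ : F.obj t.obj₁ ⟶ F'.obj t.obj₁)
    (e₂ : F.obj t.obj₂ ⟶ F'.obj t.obj₂) (h : Comm F F' e₁ e₂ t.mor₁) :
    ∃ e₃ : F.obj t.obj₃ ⟶ F'.obj t.obj₃, Comm F F' e₂ e₃ t.mor₂ ∧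
      Comm F F' e₃ (sh F F' e₁ 1) t.mor₃ := by
  obtain ⟨e₃, h₂, h₃⟩ := complete_distinguished_triangle_morphism _ _ (F.map_distinguished t ht)
    (F'.map_distinguished t ht) e₁ e₂ h
  refine ⟨e₃, h₂, ?_⟩
  change (F.map t.mor₃ ≫ (F.commShiftIso (1 : ℤ)).hom.app t.obj₁) ≫ e₁⟦(1 : ℤ)⟧' =
      e₃ ≫ F'.map t.mor₃ ≫ (F'.commShiftIso (1 : ℤ)).hom.app t.obj₁ at h₃
  dsimp only [Comm, sh]
  rw [← cancel_mono ((F'.commShiftIso (1 : ℤ)).hom.app t.obj₁)]
  simp only [Category.assoc] at h₃ ⊢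
  rw [Iso.inv_hom_id_app]
  exact ((congrArg (fun k => _ ≫ _ ≫ k) (Category.comp_id _)).trans h₃)

end Groth.Agent.Sib9
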