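import Groth.Agent.Lib.Sib9.Basic

set_option autoImplicit false

universe w v u

open CategoryTheory CategoryTheory.Limits CategoryTheory.Pretriangulated DerivedCategory

namespace Groth.Agent.Sib9

variable (A : Type u) [Category.{v} A] [Abelian A] [HasDerivedCategory.{w} A]

/-- The t-structure on the bounded derived category. -/
noncomputable abbrev tb : Triangulated.TStructure (DerivedCategory.Bounded A) :=
  (TStructure.t (C := A)).onBounded

/-- An object of `A` placed in degree `c` of the bounded derived category. -/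
noncomputable abbrev sF (c : ℤ) : A ⥤ DerivedCategory.Bounded A :=
  DEquiv.singleB A ⋙ shiftFunctor (DerivedCategory.Bounded A) (-c)

instance : (DEquiv.singleB A).Full := by unfold DEquiv.singleB; infer_instance

instance : (DEquiv.singleB A).Faithful := by unfold DEquiv.singleB; infer_instance

/-- Comparison with Mathlib's single functor. -/
noncomputable def sIso (c : ℤ) : sF A c ⋙ DerivedCategory.Bounded.ι ≅ singleFunctor A c :=
  NatIso.ofComponents (fun X =>
    ((DerivedCategory.Bounded.ι (C := A)).commShiftIso (-c)).app ((DEquiv.singleB A).obj X) ≪≫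
      ((singleFunctors A).shiftIso (-c) c 0 (by omega)).app X) (fun {X Y} f => by
    simp only [Functor.comp_map, Iso.trans_hom, Iso.app_hom, Category.assoc]
    refine (Functor.commShiftIso_hom_naturality_assoc (DerivedCategory.Bounded.ι (C := A))
      ((DEquiv.singleB A).map f) (-c) _).trans ?_
    exact congrArg (_ ≫ ·) (((singleFunctors A).shiftIso (-c) c 0 (by omega)).hom.naturality f))

variable {A}

theorem isLE_iff_obj (K : DerivedCategory.Bounded A) (n : ℤ) :
    (tb A).IsLE K n ↔ K.obj.IsLE n :=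
  ObjectProperty.tStructure_isLE_iff _ _ _ _

theorem isGE_iff_obj (K : DerivedCategory.Bounded A) (n : ℤ) :
    (tb A).IsGE K n ↔ K.obj.IsGE n :=
  ObjectProperty.tStructure_isGE_iff _ _ _ _

instance sF_isLE (c : ℤ) (X : A) : (tb A).IsLE ((sF A c).obj X) c :=
  (isLE_iff_obj _ _).2 (TStructure.t.isLE_of_iso ((sIso A c).app X).symm c)

instance sF_isGE (c : ℤ) (X : A) : (tb A).IsGE ((sF A c).obj X) c :=
  (isGE_iff_obj _ _).2 (TStructure.t.isGE_of_iso ((sIso A c).app X).symm c)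

theorem exists_window (K : DerivedCategory.Bounded A) :
    ∃ a b : ℤ, a ≤ b ∧ (tb A).IsGE K a ∧ (tb A).IsLE K b := by
  obtain ⟨⟨a, ha⟩, ⟨b, hb⟩⟩ := K.property
  exact ⟨min a b, max a b, le_trans (min_le_left _ _) (le_max_left _ _),
    (isGE_iff_obj _ _).2 (TStructure.t.isGE_of_ge _ _ a (min_le_left _ _)),
    (isLE_iff_obj _ _).2 (TStructure.t.isLE_of_le _ b _ (le_max_right _ _))⟩

theorem heart {K : DerivedCategory.Bounded A} {c : ℤ} (h₁ : (tb A).IsGE K c)
    (h₂ : (tb A).IsLE K c) : ∃ X : A, Nonempty (K ≅ (sF A c).obj X) := by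
  have := (isGE_iff_obj _ _).1 h₁
  have := (isLE_iff_obj _ _).1 h₂
  obtain ⟨X, ⟨e⟩⟩ := exists_iso_singleFunctor_obj_of_isGE_of_isLE K.obj c
  exact ⟨X, ⟨(ObjectProperty.fullyFaithfulι _).preimageIso (e ≪≫ ((sIso A c).app X).symm)⟩⟩

theorem exists_hom {K L : DerivedCategory.Bounded A} (f : K.obj ⟶ L.obj) :
    ∃ φ : K ⟶ L, DerivedCategory.Bounded.ι.map φ = f :=
  ⟨DerivedCategory.Bounded.ι.preimage f, Functor.map_preimage DerivedCategory.Bounded.ι f⟩

/-- Cones computed in the derived category and in the bounded derived category agree. -/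
theorem cone_isLE {K L : DerivedCategory.Bounded A} (φ : K ⟶ L) {C' : DerivedCategory A}
    (g : L.obj ⟶ C') (h : C' ⟶ K.obj⟦(1 : ℤ)⟧)
    (hT : Triangle.mk (DerivedCategory.Bounded.ι.map φ) g h ∈ distTriang _) (n : ℤ) [C'.IsLE n] :
    ∃ (C : DerivedCategory.Bounded A) (g : L ⟶ C) (h : C ⟶ K⟦(1 : ℤ)⟧),
      Triangle.mk φ g h ∈ distTriang _ ∧ (tb A).IsLE C n := by
  obtain ⟨C, g₁, h₁, hT₁⟩ := distinguished_cocone_triangle φ
  refine ⟨C, g₁, h₁, hT₁, (isLE_iff_obj _ _).2 ?_⟩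
  let e := isoTriangleOfIso₁₂ _ _ hT (DerivedCategory.Bounded.ι.map_distinguished _ hT₁)
    (Iso.refl _) (Iso.refl _) (by exact (Category.comp_id _).trans (Category.id_comp _).symm)
  exact TStructure.t.isLE_of_iso (X := C') (Triangle.π₃.mapIso e) n

theorem cover (K : DerivedCategory.Bounded A) (b : ℤ) [hb : (tb A).IsLE K b] :
    ∃ (N : A) (p : (sF A b).obj N ⟶ K) (C : DerivedCategory.Bounded A) (g : K ⟶ C)
      (h : C ⟶ ((sF A b).obj N)⟦(1 : ℤ)⟧),
      Triangle.mk p g h ∈ distTriang _ ∧ (tb A).IsLE C (b - 1) := by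
  have := (isLE_iff_obj _ _).1 hb
  obtain ⟨N, p, C', g, h, hT, hC⟩ := dc_cover K.obj b
  let e := (sIso A b).app N
  obtain ⟨φ, hφ⟩ := exists_hom (K := (sF A b).obj N) (L := K) (e.hom ≫ p)
  refine ⟨N, φ, cone_isLE φ g (h ≫ e.inv⟦(1 : ℤ)⟧') ?_ (b - 1)⟩
  refine isomorphic_distinguished _ hT _ (Triangle.isoMk _ _ e (Iso.refl _) (Iso.refl _) ?_ ?_ ?_)
  · exact (Category.comp_id _).trans hφ
  · exact (Category.comp_id _).trans (Category.id_comp _).symm
  · refine ((Category.assoc _ _ _).trans ?_).trans (Category.id_comp _).symm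
    refine (congrArg (h ≫ ·) ?_).trans (Category.comp_id _)
    exact ((shiftFunctor (DerivedCategory A) (1 : ℤ)).map_comp _ _).symm.trans
      ((congrArg _ e.inv_hom_id).trans (CategoryTheory.Functor.map_id _ _))

theorem proj (K : DerivedCategory.Bounded A) (a : ℤ) [ha : (tb A).IsGE K a] :
    ∃ (X : A) (R : DerivedCategory.Bounded A) (f : R ⟶ K) (p : K ⟶ (sF A a).obj X)
      (h : (sF A a).obj X ⟶ R⟦(1 : ℤ)⟧),
      Triangle.mk f p h ∈ distTriang _ ∧ (tb A).IsGE R (a + 1) := by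
  have := (isGE_iff_obj _ _).1 ha
  obtain ⟨X, R', f, p, h, hT, hR⟩ := dc_proj K.obj a
  let e := (sIso A a).app X
  obtain ⟨φ, hφ⟩ := exists_hom (K := K) (L := (sF A a).obj X) (p ≫ e.inv)
  obtain ⟨R, f₁, h₁, hT₁⟩ := distinguished_cocone_triangle₁ φ
  refine ⟨X, R, f₁, φ, h₁, hT₁, (isGE_iff_obj _ _).2 ?_⟩
  have hT' : Triangle.mk f (DerivedCategory.Bounded.ι.map φ) (e.hom ≫ h) ∈ distTriang _ := by
    refine isomorphic_distinguished _ hT _ (Triangle.isoMk _ _ (Iso.refl _) (Iso.refl _) e ?_ ?_ ?_)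
    · exact (Category.comp_id _).trans (Category.id_comp _).symm
    · exact ((congrArg (· ≫ e.hom) hφ).trans ((Category.assoc _ _ _).trans
        ((congrArg (p ≫ ·) e.inv_hom_id).trans (Category.comp_id _)))).trans
        (Category.id_comp _).symm
    · exact (congrArg (_ ≫ ·) ((shiftFunctor (DerivedCategory A) (1 : ℤ)).map_id _)).trans
        (Category.comp_id _)
  have hr := rot_of_distTriang _ hT'
  have hr₁ := rot_of_distTriang _ (DerivedCategory.Bounded.ι.map_distinguished _ hT₁)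
  let i := isoTriangleOfIso₁₂ _ _ hr hr₁
    (Iso.refl _) (Iso.refl _) (by exact (Category.comp_id _).trans (Category.id_comp _).symm)
  exact TStructure.t.isGE_of_iso (X := R')
    ((shiftFunctor (DerivedCategory A) (1 : ℤ)).preimageIso (Triangle.π₃.mapIso i)) (a + 1)

theorem epi_cone {X' X : A} (q : X' ⟶ X) [Epi q] (b : ℤ) :
    ∃ (C : DerivedCategory.Bounded A) (g : (sF A b).obj X ⟶ C)
      (h : C ⟶ ((sF A b).obj X')⟦(1 : ℤ)⟧),
      Triangle.mk ((sF A b).map q) g h ∈ distTriang _ ∧ (tb A).IsLE C (b - 1) := by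
  obtain ⟨C', g, h, hT, hC⟩ := dc_epi q b
  let e := (sIso A b).app X
  let e' := (sIso A b).app X'
  refine cone_isLE _ (e.hom ≫ g) (h ≫ e'.inv⟦(1 : ℤ)⟧') ?_ (b - 1)
  refine isomorphic_distinguished _ hT _ (Triangle.isoMk _ _ e' e (Iso.refl _) ?_ ?_ ?_)
  · exact (sIso A b).hom.naturality q
  · exact Category.comp_id _
  · refine ((Category.assoc _ _ _).trans ?_).trans (Category.id_comp _).symm
    refine (congrArg (h ≫ ·) ?_).trans (Category.comp_id _)
    exact ((shiftFunctor (DerivedCategory A) (1 : ℤ)).map_comp _ _).symm.trans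
      ((congrArg _ e'.inv_hom_id).trans (CategoryTheory.Functor.map_id _ _))

theorem kill {N : A} {b : ℤ} {C : DerivedCategory.Bounded A} (hC : (tb A).IsLE C (b - 1))
    (f : (sF A b).obj N ⟶ C) :
    ∃ (N' : A) (q : N' ⟶ N), Epi q ∧ (sF A b).map q ≫ f = 0 := by
  have : (DerivedCategory.Bounded.ι.obj C).IsLE (b - 1) := (isLE_iff_obj _ _).1 hC
  obtain ⟨N', q, hq, hqf⟩ :=
    dc_kill (((sIso A b).app N).inv ≫ DerivedCategory.Bounded.ι.map f)
  refine ⟨N', q, hq, DerivedCategory.Bounded.ι.map_injective ?_⟩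
  rw [Functor.map_comp, Functor.map_zero]
  have hn := (sIso A b).hom.naturality q
  calc DerivedCategory.Bounded.ι.map ((sF A b).map q) ≫ DerivedCategory.Bounded.ι.map f
      = ((sIso A b).hom.app N' ≫ (singleFunctor A b).map q ≫ (sIso A b).inv.app N) ≫
        DerivedCategory.Bounded.ι.map f := by
        rw [← reassoc_of% hn]; simp
    _ = (sIso A b).hom.app N' ≫ ((singleFunctor A b).map q ≫
        ((sIso A b).app N).inv ≫ DerivedCategory.Bounded.ι.map f) := by simp
    _ = 0 := by rw [hqf]; exact comp_zero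

theorem cone_isGE {t : Triangle (DerivedCategory.Bounded A)} (ht : t ∈ distTriang _) {a : ℤ}
    (h₁ : (tb A).IsGE t.obj₁ (a + 1)) (h₂ : (tb A).IsGE t.obj₂ a) : (tb A).IsGE t.obj₃ a :=
  (tb A).isGE₂ _ (rot_of_distTriang _ ht) a h₂ ((tb A).isGE_shift t.obj₁ (a + 1) 1 a (by omega))

theorem fibre_isLE {t : Triangle (DerivedCategory.Bounded A)} (ht : t ∈ distTriang _) {b : ℤ}
    (h₂ : (tb A).IsLE t.obj₂ b) (h₃ : (tb A).IsLE t.obj₃ (b - 1)) : (tb A).IsLE t.obj₁ b :=
  (tb A).isLE₂ _ (inv_rot_of_distTriang _ ht) b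
    ((tb A).isLE_shift t.obj₃ (b - 1) (-1) b (by omega)) h₂

/-- The fibre of a map to a single object. -/
theorem proj' {K : DerivedCategory.Bounded A} {a b : ℤ} (ha : (tb A).IsGE K a)
    (hb : (tb A).IsLE K b) (hab : a < b) :
    ∃ (X : A) (R : DerivedCategory.Bounded A) (f : R ⟶ K) (p : K ⟶ (sF A a).obj X)
      (h : (sF A a).obj X ⟶ R⟦(1 : ℤ)⟧),
      Triangle.mk f p h ∈ distTriang _ ∧ (tb A).IsGE R (a + 1) ∧ (tb A).IsLE R b := by
  obtain ⟨X, R, f, p, h, hT, hR⟩ := proj K a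
  exact ⟨X, R, f, p, h, hT, hR,
    fibre_isLE hT hb ((tb A).isLE_of_le ((sF A a).obj X) a (b - 1) (by omega))⟩

/-- Induction along brutal truncations. -/
theorem bounded_induction (P : ℤ → DerivedCategory.Bounded A → Prop)
    (hiso : ∀ {a : ℤ} {K L : DerivedCategory.Bounded A}, (K ≅ L) → P a K → P a L)
    (hbase : ∀ (a : ℤ) (X : A), P a ((sF A a).obj X))
    (hstep : ∀ (a : ℤ) (X : A) (R K : DerivedCategory.Bounded A) (f : R ⟶ K)
      (p : K ⟶ (sF A a).obj X) (h : (sF A a).obj X ⟶ R⟦(1 : ℤ)⟧),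
      Triangle.mk f p h ∈ distTriang _ → (tb A).IsGE R (a + 1) → P (a + 1) R → P a K)
    (K : DerivedCategory.Bounded A) {a b : ℤ} (hab : a ≤ b) (ha : (tb A).IsGE K a)
    (hb : (tb A).IsLE K b) : P a K := by
  obtain ⟨n, rfl⟩ := Int.le.dest hab
  induction n generalizing a K with
  | zero =>
    obtain ⟨X, ⟨e⟩⟩ := heart ha (by simpa using hb)
    exact hiso e.symm (hbase a X)
  | succ n ih =>
    obtain ⟨X, R, f, p, h, hT, hR, hR'⟩ := proj' ha hb (by omega)
    refine hstep a X R K f p h hT hR (ih R (a := a + 1) hR (by omega) ?_)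
    convert hR' using 1
    omega

end Groth.Agent.Sib9
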