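import Groth.Agent.Lib.Sib9.Comm
import Groth.Agent.Lib.Sib9.Facts

set_option autoImplicit false

universe w v u v' u'

open CategoryTheory CategoryTheory.Limits CategoryTheory.Pretriangulated DerivedCategory

namespace Groth.Agent.Sib9

variable {A : Type u} [Category.{v} A] [Abelian A] [HasDerivedCategory.{w} A]
  {D : Type u'} [Category.{v'} D] [Preadditive D] [HasZeroObject D] [HasShift D ℤ]
  [∀ n : ℤ, (shiftFunctor D n).Additive] [Pretriangulated D]
  {F F' : DerivedCategory.Bounded A ⥤ D} [F.CommShift ℤ] [F.IsTriangulated]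
  [F'.CommShift ℤ] [F'.IsTriangulated]
  (σ : DEquiv.singleB A ⋙ F ≅ DEquiv.singleB A ⋙ F')

/-- The comparison on objects placed in degree `c`. -/
noncomputable def sig (c : ℤ) (X : A) : F.obj ((sF A c).obj X) ⟶ F'.obj ((sF A c).obj X) :=
  sh F F' (σ.hom.app X) (-c)

instance isIso_sig (c : ℤ) (X : A) : IsIso (sig σ c X) := by
  have : IsIso (C := D) (X := F.obj ((DEquiv.singleB A).obj X))
      (Y := F'.obj ((DEquiv.singleB A).obj X)) (σ.hom.app X) :=
    inferInstanceAs (IsIso (σ.hom.app X))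
  exact isIso_sh _ _

theorem comm_same {c : ℤ} {X Y : A} (ξ : (sF A c).obj X ⟶ (sF A c).obj Y) :
    Comm F F' (sig σ c X) (sig σ c Y) ξ := by
  obtain ⟨m, rfl⟩ := (sF A c).map_surjective ξ
  exact Comm.shift (F := F) (F' := F') (σ.hom.naturality m) (-c)

/-- The identification of a shift of an object in degree `c`. -/
noncomputable def kap (c c' n : ℤ) (h : c' + n = c) (Y : A) :
    ((sF A c).obj Y)⟦n⟧ ≅ (sF A c').obj Y :=
  ((shiftFunctorAdd' (DerivedCategory.Bounded A) (-c) n (-c') (by omega)).app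
    ((DEquiv.singleB A).obj Y)).symm

theorem comm_kap (c c' n : ℤ) (h : c' + n = c) (Y : A) :
    Comm F F' (sh F F' (sig σ c Y) n) (sig σ c' Y) (kap c c' n h Y).hom :=
  comm_add (F := F) (F' := F') (σ.hom.app Y) (-c) n (-c') (by omega)

theorem comm_to_shift {c c' n : ℤ} (h : c' + n = c) {X Y : A}
    (ξ : (sF A c').obj X ⟶ ((sF A c).obj Y)⟦n⟧) :
    Comm F F' (sig σ c' X) (sh F F' (sig σ c Y) n) ξ := by
  have h₁ := (comm_same σ (ξ ≫ (kap c c' n h Y).hom)).comp (comm_kap σ c c' n h Y).inv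
  simpa using h₁

variable (F F') in
/-- No morphisms from images in higher degree to images in lower degree. -/
def Vanishing : Prop :=
  ∀ (X Y : A) (a c : ℤ), a < c → ∀ f : F.obj ((sF A a).obj X) ⟶ F.obj ((sF A c).obj Y), f = 0

omit [F.CommShift ℤ] [F.IsTriangulated] [F'.CommShift ℤ] [F'.IsTriangulated] in
theorem vanishing_of_full [F.Full] [F.PreservesZeroMorphisms] : Vanishing (A := A) F := by
  intro X Y a c hac f
  obtain ⟨g, rfl⟩ := F.map_surjective f
  rw [(tb A).zero g a c hac, F.map_zero]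

omit [Pretriangulated D] [HasZeroObject D] [F.IsTriangulated] [F'.CommShift ℤ]
  [F'.IsTriangulated] in
theorem vanishing_of_neg_ext
    (h2 : ∀ (X Y : A) (q : ℤ), q < 0 →
      ∀ f : F.obj ((DEquiv.singleB A).obj X) ⟶
        (shiftFunctor D q).obj (F.obj ((DEquiv.singleB A).obj Y)), f = 0) :
    Vanishing (A := A) F := by
  intro X Y a c hac f
  let α : F.obj ((sF A a).obj X) ≅ (shiftFunctor D (-a)).obj (F.obj ((DEquiv.singleB A).obj X)) :=
    (F.commShiftIso (-a)).app _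
  let β : F.obj ((sF A c).obj Y) ≅ (shiftFunctor D (-a)).obj
      ((shiftFunctor D (a - c)).obj (F.obj ((DEquiv.singleB A).obj Y))) :=
    (F.commShiftIso (-c)).app _ ≪≫ (shiftFunctorAdd' D (a - c) (-a) (-c) (by omega)).app _
  obtain ⟨g, hg⟩ := (shiftFunctor D (-a)).map_surjective (α.inv ≫ f ≫ β.hom)
  rw [h2 X Y (a - c) (by omega) g, Functor.map_zero] at hg
  rw [← cancel_epi α.inv, ← cancel_mono β.hom, Category.assoc, ← hg]
  simp

include σ in
theorem zero_to_image (hv : Vanishing (A := A) F) (X : A) {a c : ℤ} (hac : a < c)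
    (R : DerivedCategory.Bounded A) (hR : (tb A).IsGE R c)
    (f : F.obj ((sF A a).obj X) ⟶ F'.obj R) : f = 0 := by
  obtain ⟨a₀, b₀, hab, ha₀, hb₀⟩ := exists_window R
  have key := bounded_induction
    (fun c K => ∀ a < c, ∀ f : F.obj ((sF A a).obj X) ⟶ F'.obj K, f = 0)
    (fun e h a ha f => by
      rw [← cancel_mono (F'.mapIso e).inv, zero_comp]; exact h a ha _)
    (fun c Y a ha f => by
      rw [← cancel_mono (inv (sig σ c Y)), zero_comp]; exact hv X Y a c ha _)
    (fun c Y R K u p h hT hR ih a ha f => by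
      have hp : f ≫ F'.map p = 0 := by
        rw [← cancel_mono (inv (sig σ c Y)), zero_comp]; exact hv X Y a c ha _
      obtain ⟨g, rfl⟩ := Triangle.coyoneda_exact₂ _ (F'.map_distinguished _ hT) f hp
      rw [ih a (by omega) g]
      exact zero_comp)
    R (a := c) (b := max c b₀) (le_max_left _ _) hR
    ((tb A).isLE_of_le R b₀ _ (le_max_right _ _))
  exact key a hac f

theorem comm_conn (hv : Vanishing (A := A) F) {a : ℤ} {X Y : A}
    {R R' : DerivedCategory.Bounded A} (δ : (sF A a).obj X ⟶ R⟦(1 : ℤ)⟧) (f : R' ⟶ R)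
    (π : R ⟶ (sF A (a + 1)).obj Y) (h : (sF A (a + 1)).obj Y ⟶ R'⟦(1 : ℤ)⟧)
    (hT : Triangle.mk f π h ∈ distTriang _) (hR' : (tb A).IsGE R' (a + 1 + 1))
    (e : F.obj R ⟶ F'.obj R) (he : Comm F F' e (sig σ (a + 1) Y) π) :
    Comm F F' (sig σ a X) (sh F F' e 1) δ := by
  have h₁ := comm_to_shift σ (c := a + 1) (c' := a) (n := 1) rfl (δ ≫ π⟦(1 : ℤ)⟧')
  have h₂ := he.shift (1 : ℤ)
  dsimp only [Comm] at h₁ h₂ ⊢
  rw [← sub_eq_zero]
  have hu : (F.map δ ≫ sh F F' e 1 - sig σ a X ≫ F'.map δ) ≫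
      F'.map ((1 : ℤ).negOnePow • π⟦(1 : ℤ)⟧') = 0 := by
    have : (F.map δ ≫ sh F F' e 1 - sig σ a X ≫ F'.map δ) ≫ F'.map (π⟦(1 : ℤ)⟧') = 0 := by
      rw [Preadditive.sub_comp, Category.assoc, Category.assoc, ← h₂, ← Functor.map_comp_assoc,
        ← Functor.map_comp, h₁, sub_self]
    rw [Units.smul_def, Functor.map_zsmul, Preadditive.comp_zsmul, this, smul_zero]
  obtain ⟨v, hv'⟩ := Triangle.coyoneda_exact₂ _
    (F'.map_distinguished _ (Triangle.shift_distinguished _ hT 1)) _ hu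
  rw [hv', zero_to_image σ hv X (c := a + 1) (by omega) (R'⟦(1 : ℤ)⟧)
    ((tb A).isGE_shift R' (a + 1 + 1) 1 (a + 1) (by omega)) v]
  exact zero_comp

include σ in
theorem exists_iso_proj (hv : Vanishing (A := A) F) (K : DerivedCategory.Bounded A) {a b : ℤ}
    (hab : a ≤ b) (ha : (tb A).IsGE K a) (hb : (tb A).IsLE K b) :
    ∃ (X : A) (R : DerivedCategory.Bounded A) (f : R ⟶ K) (p : K ⟶ (sF A a).obj X)
      (h : (sF A a).obj X ⟶ R⟦(1 : ℤ)⟧) (e : F.obj K ⟶ F'.obj K),
      Triangle.mk f p h ∈ distTriang _ ∧ (tb A).IsGE R (a + 1) ∧ IsIso e ∧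
        Comm F F' e (sig σ a X) p := by
  obtain ⟨n, rfl⟩ := Int.le.dest hab
  induction n generalizing a K with
  | zero =>
    obtain ⟨X, ⟨i⟩⟩ := heart ha (by simpa using hb)
    obtain ⟨R, f, h, hT⟩ := distinguished_cocone_triangle₁ i.hom
    have hz : IsZero R := (Triangle.isZero₁_iff_isIso₂ _ hT).2 (inferInstanceAs (IsIso i.hom))
    refine ⟨X, R, f, i.hom, h, F.map i.hom ≫ sig σ a X ≫ F'.map i.inv, hT,
      (tb A).isGE_of_isZero hz _, inferInstance, ?_⟩
    dsimp only [Comm]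
    simp [← Functor.map_comp]
  | succ n ih =>
    obtain ⟨X, R, f, p, h, hT, hR, hR'⟩ := proj' ha hb (by omega)
    obtain ⟨Y, R', f', π, h', e', hT', hR'', he', hc⟩ := ih R (a := a + 1) hR (by omega) (by
      convert hR' using 1
      omega)
    obtain ⟨e, -, h₂, h₃⟩ := exists_comm₂ (F := F) (F' := F') _ hT e' (sig σ a X)
      (comm_conn σ hv h f' π h' hT' hR'' e' hc)
    exact ⟨X, R, f, p, h, e, hT, hR, h₃ he' (isIso_sig σ a X), h₂⟩

end Groth.Agent.Sib9
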