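import Mathlib.CategoryTheory.Triangulated.Functor
import Mathlib.CategoryTheory.HomCongr

set_option autoImplicit false

universe v v' u u'

open CategoryTheory CategoryTheory.Limits CategoryTheory.Pretriangulated

namespace Groth.Agent.Sib9

variable {T : Type u} [Category.{v} T] {D : Type u'} [Category.{v'} D] (F : T ⥤ D)

/-- The map on morphisms is bijective. -/
def Bij (K L : T) : Prop := Function.Bijective (fun f : K ⟶ L => F.map f)

variable {F} in
theorem Bij.of_iso {K L K' L' : T} (a : K ≅ K') (b : L ≅ L') (h : Bij F K L) : Bij F K' L' := by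
  have : (fun f : K' ⟶ L' => F.map f) = (Iso.homCongr (F.mapIso a) (F.mapIso b)) ∘
      (fun f : K ⟶ L => F.map f) ∘ (Iso.homCongr a b).symm := by
    ext f
    simp [← Functor.map_comp]
  unfold Bij
  rw [this]
  exact (Equiv.bijective _).comp (h.comp (Equiv.bijective _))

variable [HasShift T ℤ] [HasShift D ℤ] [F.CommShift ℤ]

variable {F} in
theorem Bij.shift {K L : T} (m : ℤ) (h : Bij F K L) : Bij F (K⟦m⟧) (L⟦m⟧) := by
  constructor
  · intro f g hfg
    obtain ⟨f, rfl⟩ := (shiftFunctor T m).map_surjective f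
    obtain ⟨g, rfl⟩ := (shiftFunctor T m).map_surjective g
    have := congrArg (· ≫ (F.commShiftIso m).hom.app L) hfg
    simp only [Functor.commShiftIso_hom_naturality, cancel_epi] at this
    rw [h.1 ((shiftFunctor D m).map_injective this)]
  · intro f
    obtain ⟨f₀, hf₀⟩ := (shiftFunctor D m).map_surjective
      ((F.commShiftIso m).inv.app K ≫ f ≫ (F.commShiftIso m).hom.app L)
    obtain ⟨f₁, rfl⟩ := h.2 f₀
    refine ⟨f₁⟦m⟧', ?_⟩
    dsimp only
    rw [← cancel_mono ((F.commShiftIso m).hom.app L), Functor.commShiftIso_hom_naturality, hf₀]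
    simp

variable [Preadditive T] [HasZeroObject T] [∀ n : ℤ, (shiftFunctor T n).Additive]
  [Pretriangulated T] [Preadditive D] [HasZeroObject D] [∀ n : ℤ, (shiftFunctor D n).Additive]
  [Pretriangulated D] [F.IsTriangulated]

theorem bij_ext_right {K : T} (t : Triangle T) (ht : t ∈ distTriang T)
    (h₀ : Bij F K (t.obj₃⟦(-1 : ℤ)⟧)) (h₁ : Bij F K t.obj₁) (h₃ : Bij F K t.obj₃)
    (h₄ : Bij F K (t.obj₁⟦(1 : ℤ)⟧)) : Bij F K t.obj₂ := by
  have hF := F.map_distinguished _ ht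
  constructor
  · intro f g hfg
    rw [← sub_eq_zero]
    have hd : F.map (f - g) = 0 := by rw [F.map_sub]; exact sub_eq_zero.2 hfg
    have h₂ : (f - g) ≫ t.mor₂ = 0 := h₃.1 (by
      dsimp only; rw [F.map_comp, hd, zero_comp, F.map_zero])
    obtain ⟨k, hk⟩ := Triangle.coyoneda_exact₂ _ ht _ h₂
    have hk' : F.map k ≫ F.map t.mor₁ = 0 := by rw [← F.map_comp, ← hk, hd]
    obtain ⟨l, hl⟩ := Triangle.coyoneda_exact₂ _
      (F.map_distinguished _ (inv_rot_of_distTriang _ ht)) (F.map k) hk'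
    obtain ⟨l, rfl⟩ := h₀.2 l
    have hkl : k = l ≫ t.invRotate.mor₁ := h₁.1 (hl.trans (F.map_comp _ _).symm)
    rw [hk, hkl]
    exact (Category.assoc _ _ _).trans ((congrArg (l ≫ ·)
      (comp_distTriang_mor_zero₁₂ _ (inv_rot_of_distTriang _ ht))).trans comp_zero)
  · intro f
    obtain ⟨g, hg⟩ := h₃.2 (f ≫ F.map t.mor₂)
    have hg₀ : g ≫ t.mor₃ = 0 := h₄.1 (by
      dsimp only at hg ⊢
      rw [F.map_comp, hg, Category.assoc, ← F.map_comp, comp_distTriang_mor_zero₂₃ _ ht,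
        F.map_zero, comp_zero]
      exact (F.map_zero _ _).symm)
    obtain ⟨k, rfl⟩ := Triangle.coyoneda_exact₃ _ ht _ hg₀
    have h' : (f - F.map k) ≫ F.map t.mor₂ = 0 := by
      dsimp only at hg
      rw [Preadditive.sub_comp, ← F.map_comp, hg, sub_self]
    obtain ⟨l, hl⟩ := Triangle.coyoneda_exact₂ _ hF _ h'
    obtain ⟨l, rfl⟩ := h₁.2 l
    refine ⟨k + l ≫ t.mor₁, ?_⟩
    dsimp only
    rw [F.map_add, F.map_comp]
    exact (congrArg (F.map k + ·) hl.symm).trans (add_sub_cancel _ _)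

theorem bij_ext_left {L : T} (t : Triangle T) (ht : t ∈ distTriang T)
    (h₀ : Bij F (t.obj₃⟦(-1 : ℤ)⟧) L) (h₁ : Bij F t.obj₁ L) (h₃ : Bij F t.obj₃ L)
    (h₄ : Bij F (t.obj₁⟦(1 : ℤ)⟧) L) : Bij F t.obj₂ L := by
  have hF := F.map_distinguished _ ht
  constructor
  · intro f g hfg
    rw [← sub_eq_zero]
    have hd : F.map (f - g) = 0 := by rw [F.map_sub]; exact sub_eq_zero.2 hfg
    have h₂ : t.mor₁ ≫ (f - g) = 0 := h₁.1 (by
      dsimp only; rw [F.map_comp, hd, comp_zero, F.map_zero])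
    obtain ⟨k, hk⟩ := Triangle.yoneda_exact₂ _ ht _ h₂
    have hk' : F.map t.mor₂ ≫ F.map k = 0 := by rw [← F.map_comp, ← hk, hd]
    obtain ⟨l, hl⟩ := Triangle.yoneda_exact₂ _
      (F.map_distinguished _ (rot_of_distTriang _ ht)) (F.map k) hk'
    obtain ⟨l, rfl⟩ := h₄.2 l
    have hkl : k = t.mor₃ ≫ l := h₃.1 (hl.trans (F.map_comp _ _).symm)
    rw [hk, hkl, comp_distTriang_mor_zero₂₃_assoc _ ht, zero_comp]
  · intro f
    obtain ⟨g, hg⟩ := h₁.2 (F.map t.mor₁ ≫ f)
    have hg₀ : t.invRotate.mor₁ ≫ g = 0 := h₀.1 (by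
      dsimp only at hg ⊢
      refine (F.map_comp _ _).trans ((congrArg (_ ≫ ·) hg).trans ?_)
      refine ((Category.assoc _ _ _).symm.trans (congrArg (· ≫ f) ((F.map_comp _ _).symm.trans
        ((congrArg F.map (comp_distTriang_mor_zero₁₂ _ (inv_rot_of_distTriang _ ht))).trans
        (F.map_zero _ _))))).trans (zero_comp.trans (F.map_zero _ _).symm))
    obtain ⟨k, rfl⟩ : ∃ k : t.obj₂ ⟶ L, g = t.mor₁ ≫ k :=
      Triangle.yoneda_exact₂ _ (inv_rot_of_distTriang _ ht) _ hg₀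
    have h' : F.map t.mor₁ ≫ (f - F.map k) = 0 := by
      dsimp only at hg
      rw [Preadditive.comp_sub, ← F.map_comp]
      exact sub_eq_zero.2 hg.symm
    obtain ⟨l, hl⟩ := Triangle.yoneda_exact₂ _ hF _ h'
    obtain ⟨l, rfl⟩ := h₃.2 l
    refine ⟨k + t.mor₂ ≫ l, ?_⟩
    dsimp only
    rw [F.map_add, F.map_comp]
    exact (congrArg (F.map k + ·) hl.symm).trans (add_sub_cancel _ _)

end Groth.Agent.Sib9
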