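import Groth.Agent.Lib.Sib9.Core

set_option autoImplicit false

universe w v u v' u'

open CategoryTheory CategoryTheory.Limits CategoryTheory.Pretriangulated DerivedCategory

namespace Groth.Agent.Sib9

variable {A : Type u} [Category.{v} A] [Abelian A] [HasDerivedCategory.{w} A]
  {D : Type u'} [Category.{v'} D] [Preadditive D] [HasZeroObject D] [HasShift D ℤ]
  [∀ n : ℤ, (shiftFunctor D n).Additive] [Pretriangulated D]
  {F F' : DerivedCategory.Bounded A ⥤ D} [F.CommShift ℤ] [F.IsTriangulated]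
  [F'.CommShift ℤ] [F'.IsTriangulated]
  (σ : DEquiv.singleB A ⋙ F ≅ DEquiv.singleB A ⋙ F')

theorem comm_delta (hv : Vanishing (A := A) F) {a : ℤ} {X Y : A}
    (ξ : (sF A a).obj X ⟶ ((sF A a).obj Y)⟦(1 : ℤ)⟧) :
    Comm F F' (sig σ a X) (sh F F' (sig σ a Y) 1) ξ := by
  obtain ⟨E, u, v, hT⟩ := distinguished_cocone_triangle₂ ξ
  have hE₁ : (tb A).IsGE E a := (tb A).isGE₂ _ hT a (sF_isGE a Y) (sF_isGE a X)
  have hE₂ : (tb A).IsLE E a := (tb A).isLE₂ _ hT a (sF_isLE a Y) (sF_isLE a X)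
  obtain ⟨E', ⟨i⟩⟩ := heart hE₁ hE₂
  have hT' : Triangle.mk (u ≫ i.hom) (i.inv ≫ v) ξ ∈ distTriang _ :=
    isomorphic_distinguished _ hT _ (Triangle.isoMk _ _ (Iso.refl _) i.symm (Iso.refl _)
      ((Category.assoc _ _ _).trans ((congrArg (u ≫ ·) i.hom_inv_id).trans
        ((Category.comp_id _).trans (Category.id_comp _).symm))) (Category.comp_id _)
      ((congrArg (ξ ≫ ·) ((shiftFunctor (DerivedCategory.Bounded A) (1 : ℤ)).map_id _)).trans
        ((Category.comp_id _).trans (Category.id_comp _).symm)))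
  obtain ⟨c, hc₂, hc₃⟩ : ∃ c : F.obj ((sF A a).obj X) ⟶ F'.obj ((sF A a).obj X),
      Comm F F' (sig σ a E') c (i.inv ≫ v) ∧ Comm F F' c (sh F F' (sig σ a Y) 1) ξ :=
    exists_comm₃ (F := F) (F' := F') _ hT' (sig σ a Y) (sig σ a E') (comm_same σ _)
  have h₂ := comm_same σ (i.inv ≫ v)
  have hd : (F.mapTriangle.obj (Triangle.mk (u ≫ i.hom) (i.inv ≫ v) ξ)).mor₂ ≫
      (c - sig σ a X) = 0 := by
    dsimp only [Comm] at hc₂ h₂
    change F.map (i.inv ≫ v) ≫ _ = 0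
    rw [Preadditive.comp_sub, sub_eq_zero]
    exact hc₂.trans h₂.symm
  obtain ⟨g, hg⟩ := Triangle.yoneda_exact₃ _ (F.map_distinguished _ hT') (c - sig σ a X) hd
  let k : F.obj ((sF A (a - 1)).obj Y) ≅ (F.obj ((sF A a).obj Y))⟦(1 : ℤ)⟧ :=
    F.mapIso (kap a (a - 1) 1 (by omega) Y).symm ≪≫ (F.commShiftIso (1 : ℤ)).app _
  have hg0 : g = 0 := by
    refine (cancel_epi k.hom).1 (Eq.trans ?_ comp_zero.symm)
    exact (cancel_mono (inv (sig σ a X))).1
      ((hv Y X (a - 1) a (by omega) _).trans zero_comp.symm)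
  rw [hg0] at hg
  rw [sub_eq_zero.1 (hg.trans comp_zero)] at hc₃
  exact hc₃

theorem comm_hom (hv : Vanishing (A := A) F) {a c : ℤ} {X Y : A}
    (ξ : (sF A a).obj X ⟶ (sF A c).obj Y) : Comm F F' (sig σ a X) (sig σ c Y) ξ := by
  rcases lt_or_ge a c with hac | hca
  · rw [(tb A).zero ξ a c hac]
    simp [Comm]
  obtain ⟨n, hn⟩ := Int.le.dest hca
  induction n generalizing X a with
  | zero =>
    obtain rfl : a = c := by omega
    exact comm_same σ ξ
  | succ n ih =>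
    obtain rfl : a = c + ↑(n + 1) := hn.symm
    obtain ⟨N, q, hq, hqξ⟩ := kill (b := c + ↑(n + 1))
      ((tb A).isLE_of_le ((sF A c).obj Y) c (c + ↑(n + 1) - 1) (by omega)) ξ
    obtain ⟨C, g, h, hT, hC⟩ := epi_cone q (c + ↑(n + 1))
    have hC' : (tb A).IsGE C (c + ↑(n + 1) - 1) :=
      cone_isGE hT ((tb A).isGE_of_ge ((sF A (c + ↑(n + 1))).obj N) _ (c + ↑(n + 1)) (by omega))
        ((tb A).isGE_of_ge ((sF A (c + ↑(n + 1))).obj X) _ (c + ↑(n + 1)) (by omega))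
    obtain ⟨Z, ⟨i⟩⟩ := heart hC' hC
    obtain ⟨ξ', hξ'⟩ := Triangle.yoneda_exact₂ _ hT ξ hqξ
    let j : C ≅ (sF A (c + ↑n)).obj Z :=
      i ≪≫ eqToIso (by rw [show c + ((n + 1 : ℕ) : ℤ) - 1 = c + (n : ℤ) from by omega])
    have h₁ : Comm F F' (sig σ (c + ↑(n + 1)) X) (sig σ (c + ↑n) Z) (g ≫ j.hom) := by
      let κ := kap (c + ↑(n + 1)) (c + ↑n) 1 (by omega) Z
      have := (comm_delta σ hv ((g ≫ j.hom) ≫ κ.inv)).comp
        (comm_kap σ (c + ↑(n + 1)) (c + ↑n) 1 (by omega) Z)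
      simpa [κ] using this
    have h₂ := ih (X := Z) (a := c + ↑n) (j.inv ≫ ξ') (by omega) rfl
    have h₃ := h₁.comp h₂
    rw [hξ']
    have he : (g ≫ j.hom) ≫ (j.inv ≫ ξ') = g ≫ ξ' :=
      (Category.assoc _ _ _).trans (congrArg (g ≫ ·) (j.hom_inv_id_assoc _))
    exact he ▸ h₃

include σ in
theorem bij_single (hv : Vanishing (A := A) F) [F.Full] [F.Faithful] {a c : ℤ} (X Y : A) :
    Function.Bijective
      (fun f : (sF A a).obj X ⟶ (sF A c).obj Y => F'.map f) := by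
  constructor
  · intro f g hfg
    have hf := comm_hom σ hv f
    have hg := comm_hom σ hv g
    dsimp only [Comm] at hf hg hfg
    rw [hfg, ← hg, cancel_mono] at hf
    exact F.map_injective hf
  · intro f
    refine ⟨F.preimage (sig σ a X ≫ f ≫ inv (sig σ c Y)), ?_⟩
    have h := comm_hom σ hv (F.preimage (sig σ a X ≫ f ≫ inv (sig σ c Y)))
    dsimp only [Comm] at h
    rw [F.map_preimage] at h
    simp only [Category.assoc, IsIso.inv_hom_id, Category.comp_id, cancel_epi] at h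
    exact h.symm

end Groth.Agent.Sib9
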