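import Groth.Agent.Lib.Sib9.Ext

set_option autoImplicit false

universe w v u v' u'

open CategoryTheory CategoryTheory.Limits CategoryTheory.Pretriangulated DerivedCategory

namespace Groth.Agent.Sib9

variable {A : Type u} [Category.{v} A] [Abelian A] [HasDerivedCategory.{w} A]
  {D : Type u'} [Category.{v'} D] [Preadditive D] [HasZeroObject D] [HasShift D ℤ]
  [∀ n : ℤ, (shiftFunctor D n).Additive] [Pretriangulated D]
  {F F' : DerivedCategory.Bounded A ⥤ D} [F.CommShift ℤ] [F.IsTriangulated]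
  [F'.CommShift ℤ] [F'.IsTriangulated]

/-- Bounded objects in a window. -/
def InW (a b : ℤ) (K : DerivedCategory.Bounded A) : Prop := (tb A).IsGE K a ∧ (tb A).IsLE K b

theorem InW.mono {a b a' b' : ℤ} {K : DerivedCategory.Bounded A} (h : InW a b K) (ha : a' ≤ a)
    (hb : b ≤ b') : InW a' b' K :=
  ⟨have := h.1; (tb A).isGE_of_ge K a' a ha, have := h.2; (tb A).isLE_of_le K b b' hb⟩

theorem inW_single (c : ℤ) (X : A) : InW c c ((sF A c).obj X) := ⟨sF_isGE c X, sF_isLE c X⟩

variable (A) in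
/-- The negativity hypothesis. -/
def EnoughNegative : Prop := ∀ X : A, ∃ (N : A) (p : N ⟶ X), Epi p ∧ ∀ f : X ⟶ N, f = 0

theorem cover_comp [IsTriangulated (DerivedCategory.Bounded A)] {K C : DerivedCategory.Bounded A}
    {b : ℤ} {N N' : A} {p : (sF A b).obj N ⟶ K} {g : K ⟶ C}
    {h : C ⟶ ((sF A b).obj N)⟦(1 : ℤ)⟧} (hT : Triangle.mk p g h ∈ distTriang _)
    (hC : (tb A).IsLE C (b - 1)) (q : N' ⟶ N) [Epi q] :
    ∃ (C' : DerivedCategory.Bounded A) (g' : K ⟶ C') (h' : C' ⟶ ((sF A b).obj N')⟦(1 : ℤ)⟧),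
      Triangle.mk ((sF A b).map q ≫ p) g' h' ∈ distTriang _ ∧ (tb A).IsLE C' (b - 1) := by
  obtain ⟨C₁, g₁, h₁, hT₁, hC₁⟩ := epi_cone q b
  obtain ⟨C', g', h', hT'⟩ := distinguished_cocone_triangle ((sF A b).map q ≫ p)
  have O := Triangulated.someOctahedron rfl hT₁ hT hT'
  exact ⟨C', g', h', hT', (tb A).isLE₂ _ O.mem (b - 1) hC₁ hC⟩

theorem cone_inW {a b : ℤ} (hab : a < b) {K C : DerivedCategory.Bounded A} {N : A}
    {p : (sF A b).obj N ⟶ K} {g : K ⟶ C} {h : C ⟶ ((sF A b).obj N)⟦(1 : ℤ)⟧}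
    (hT : Triangle.mk p g h ∈ distTriang _) (hK : InW a b K) (hC : (tb A).IsLE C (b - 1)) :
    InW a (b - 1) C :=
  ⟨cone_isGE hT ((tb A).isGE_of_ge ((sF A b).obj N) (a + 1) b (by omega)) hK.1, hC⟩

theorem negative_refine (hneg : EnoughNegative A) (K : DerivedCategory.Bounded A) (b : ℤ)
    (hK : (tb A).IsLE K b) (N : A) :
    ∃ (N' : A) (q : N' ⟶ N), Epi q ∧ ∀ g : K ⟶ (sF A b).obj N', g = 0 := by
  obtain ⟨Z, r, C, u, v, hT, hC⟩ := cover K b
  obtain ⟨N', q, hq, hz⟩ := hneg (N ⊞ Z)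
  refine ⟨N', q ≫ biprod.fst, epi_comp _ _, fun g => ?_⟩
  have h₁ : r ≫ g = 0 := by
    obtain ⟨m, hm⟩ := (sF A b).map_surjective (r ≫ g)
    have : m = 0 := by
      have h := hz (biprod.snd ≫ m)
      have h' := congrArg (biprod.inr ≫ ·) h
      simpa using h'
    rw [← hm, this, Functor.map_zero]
  obtain ⟨k, rfl⟩ : ∃ k : C ⟶ (sF A b).obj N', g = u ≫ k := Triangle.yoneda_exact₂ _ hT g h₁
  rw [(tb A).zero k (b - 1) b (by omega)]
  exact comp_zero

theorem exists_negative_cover [IsTriangulated (DerivedCategory.Bounded A)]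
    (hneg : EnoughNegative A) (K L : DerivedCategory.Bounded A) (b : ℤ)
    (hK : (tb A).IsLE K b) (hL : (tb A).IsLE L b) :
    ∃ (N : A) (p : (sF A b).obj N ⟶ L) (C : DerivedCategory.Bounded A) (g : L ⟶ C)
      (h : C ⟶ ((sF A b).obj N)⟦(1 : ℤ)⟧), Triangle.mk p g h ∈ distTriang _ ∧
      (tb A).IsLE C (b - 1) ∧ ∀ u : K ⟶ (sF A b).obj N, u = 0 := by
  obtain ⟨N, p, C, g, h, hT, hC⟩ := cover L b
  obtain ⟨N', q, hq, hz⟩ := negative_refine hneg K b hK N
  obtain ⟨C', g', h', hT', hC'⟩ := cover_comp hT hC q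
  exact ⟨N', _, C', g', h', hT', hC', hz⟩

variable (σ : DEquiv.singleB A ⋙ F ≅ DEquiv.singleB A ⋙ F')

include σ in
theorem zero_of_negative [F.Full] {K : DerivedCategory.Bounded A} {b : ℤ} {N : A}
    (hz : ∀ g : K ⟶ (sF A b).obj N, g = 0) (f : F.obj K ⟶ F'.obj ((sF A b).obj N)) : f = 0 := by
  obtain ⟨g, hg⟩ := F.map_surjective (f ≫ inv (sig σ b N))
  rw [hz g, F.map_zero] at hg
  exact (cancel_mono (inv (sig σ b N))).1 (hg.symm.trans zero_comp.symm)

/-- A natural comparison on a window, extending the given one on objects in single degrees. -/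
structure WinNat (a b : ℤ) (t : ∀ K : DerivedCategory.Bounded A, InW a b K →
    (F.obj K ⟶ F'.obj K)) : Prop where
  natural : ∀ (K L : DerivedCategory.Bounded A) (hK : InW a b K) (hL : InW a b L) (f : K ⟶ L),
    Comm F F' (t K hK) (t L hL) f
  ext : ∀ (c : ℤ) (_ : a ≤ c) (_ : c ≤ b) (X : A) (h : InW a b ((sF A c).obj X)),
    t _ h = sig σ c X

theorem WinNat.restrict {a b a' b' : ℤ} (ha : a' ≤ a) (hb : b ≤ b')
    {t : ∀ K : DerivedCategory.Bounded A, InW a' b' K → (F.obj K ⟶ F'.obj K)}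
    (ht : WinNat σ a' b' t) : WinNat σ a b (fun K hK => t K (hK.mono ha hb)) where
  natural K L hK hL f := ht.natural K L _ _ f
  ext c h₁ h₂ X _ := ht.ext c (by omega) (by omega) X _

include σ in
theorem exists_unique_winNat [F.Full] [F.Faithful]
    [IsTriangulated (DerivedCategory.Bounded A)] (hneg : EnoughNegative A) (n : ℕ) :
    ∀ (a b : ℤ), a + n = b →
    ∃ t : ∀ K : DerivedCategory.Bounded A, InW a b K → (F.obj K ⟶ F'.obj K),
      WinNat σ a b t ∧ (∀ K hK, IsIso (t K hK)) ∧ ∀ t', WinNat σ a b t' → t' = t := by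
  induction n with
  | zero =>
    intro a b hab
    obtain rfl : a = b := by omega
    choose X i using fun (K : DerivedCategory.Bounded A) (hK : InW a a K) => heart hK.1 hK.2
    let t : ∀ K : DerivedCategory.Bounded A, InW a a K → (F.obj K ⟶ F'.obj K) :=
      fun K hK => F.map (i K hK).some.hom ≫ sig σ a (X K hK) ≫ F'.map (i K hK).some.inv
    have hc : ∀ K hK, Comm F F' (t K hK) (sig σ a (X K hK)) (i K hK).some.hom := fun K hK => by
      simp [Comm, t, ← Functor.map_comp]
    refine ⟨t, ⟨fun K L hK hL f => ?_, fun c h₁ h₂ Y hY => ?_⟩, fun K hK => inferInstance,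
      fun t' ht' => ?_⟩
    · have h := ((hc K hK).comp (comm_same σ ((i K hK).some.inv ≫ f ≫ (i L hL).some.hom))).comp
        (hc L hL).inv
      simpa using h
    · obtain rfl : c = a := by omega
      have h₁ := hc _ hY
      have h₂ := comm_same σ (i _ hY).some.hom
      dsimp only [Comm] at h₁ h₂
      exact ((cancel_mono _).1 (h₂.symm.trans h₁)).symm
    · funext K hK
      have h₁ := hc K hK
      have h₂ := ht'.natural K _ hK (inW_single a (X K hK)) (i K hK).some.hom
      rw [ht'.ext a le_rfl le_rfl] at h₂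
      dsimp only [Comm] at h₁ h₂
      exact (cancel_mono _).1 (h₂.symm.trans h₁)
  | succ n ih =>
    intro a b hab
    obtain ⟨t, ht, hiso, huniq⟩ := ih a (b - 1) (by omega)
    have hab' : a < b := by omega
    choose N p C g h hT hC hz using fun (K : DerivedCategory.Bounded A) (hK : InW a b K) =>
      exists_negative_cover hneg K K b hK.2 hK.2
    have hconn : ∀ (C : DerivedCategory.Bounded A) (hC : InW a (b - 1) C) (N : A)
        (h : C ⟶ ((sF A b).obj N)⟦(1 : ℤ)⟧), Comm F F' (t C hC) (sh F F' (sig σ b N) 1) h := by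
      intro C hC N h
      let κ := kap (A := A) b (b - 1) 1 (by omega) N
      have hW : InW a (b - 1) ((sF A (b - 1)).obj N) :=
        (inW_single (b - 1) N).mono (by omega) le_rfl
      have h₁ := ht.natural C _ hC hW (h ≫ κ.hom)
      rw [ht.ext (b - 1) (by omega) le_rfl N hW] at h₁
      have h₂ := h₁.comp (comm_kap σ b (b - 1) 1 (by omega) N).inv
      simpa [κ] using h₂
    have hW₀ : ∀ K hK, InW a (b - 1) (C K hK) :=
      fun K hK => cone_inW hab' (hT K hK) hK (hC K hK)
    have hex : ∀ (K : DerivedCategory.Bounded A) (hK : InW a b K),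
        ∃ e : F.obj K ⟶ F'.obj K, Comm F F' (sig σ b (N K hK)) e (p K hK) ∧
          Comm F F' e (t _ (hW₀ K hK)) (g K hK) ∧ IsIso e := fun K hK => by
      obtain ⟨e, h₁, h₂, h₃⟩ := exists_comm₂ (F := F) (F' := F') _ (hT K hK) (sig σ b (N K hK))
        (t _ (hW₀ K hK)) (hconn _ (hW₀ K hK) _ _)
      exact ⟨e, h₁, h₂, h₃ (isIso_sig σ b _) (hiso _ _)⟩
    choose e he₁ he₂ he₃ using hex
    have star : ∀ (K : DerivedCategory.Bounded A) (hK : InW a b K) (M : DerivedCategory.Bounded A)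
        (hM : InW a (b - 1) M) (u : K ⟶ M), Comm F F' (e K hK) (t M hM) u := by
      intro K hK M hM u
      obtain ⟨N', q, hq, hqu⟩ := kill hM.2 (p K hK ≫ u)
      obtain ⟨C', g', h', hT', hC'⟩ := cover_comp (hT K hK) (hC K hK) q
      have hW' := cone_inW hab' hT' hK hC'
      obtain ⟨e', he'⟩ : ∃ e' : F.obj K ⟶ F'.obj K, Comm F F' e' (t C' hW') g' := by
        obtain ⟨e', -, he', -⟩ := exists_comm₂ (F := F) (F' := F') _ hT' (sig σ b N')
          (t C' hW') (hconn C' hW' _ _)
        exact ⟨e', he'⟩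
      obtain ⟨u', hu'⟩ : ∃ u' : C' ⟶ M, u = g' ≫ u' := Triangle.yoneda_exact₂ _ hT' u ((Category.assoc _ _ _).trans hqu)
      obtain ⟨w, hw⟩ : ∃ w : C' ⟶ C K hK, g K hK = g' ≫ w :=
        Triangle.yoneda_exact₂ _ hT' (g K hK)
        ((Category.assoc _ _ _).trans ((congrArg (_ ≫ ·)
          (comp_distTriang_mor_zero₁₂ _ (hT K hK))).trans comp_zero))
      have h₁ : Comm F F' e' (t M hM) u := by
        rw [hu']; exact Comm.comp he' (ht.natural _ _ hW' hM u')
      have h₂ : Comm F F' e' (t _ (hW₀ K hK)) (g K hK) := by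
        rw [hw]; exact Comm.comp he' (ht.natural _ _ hW' (hW₀ K hK) w)
      have h₃ := he₂ K hK
      dsimp only [Comm] at h₂ h₃
      have hee : e' = e K hK := by
        have hd : (e' - e K hK) ≫ F'.map (g K hK) = 0 := by
          rw [Preadditive.sub_comp, sub_eq_zero]
          exact h₂.symm.trans h₃
        obtain ⟨v, hv⟩ := Triangle.coyoneda_exact₂ _ (F'.map_distinguished _ (hT K hK)) _ hd
        rw [zero_of_negative σ (hz K hK) v] at hv
        exact sub_eq_zero.1 (hv.trans zero_comp)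
      exact hee ▸ h₁
    refine ⟨e, ⟨fun K L hK hL f => ?_, fun c h₁ h₂ X hX => ?_⟩,
      fun K hK => he₃ K hK, fun t' ht' => ?_⟩
    · obtain ⟨N', q, hq, hzK⟩ := negative_refine hneg K b hK.2 (N L hL)
      obtain ⟨C', g', h', hT', hC'⟩ := cover_comp (hT L hL) (hC L hL) q
      have hW' := cone_inW hab' hT' hL hC'
      have hs₁ := star L hL C' hW' g'
      have hs₂ := star K hK C' hW' (f ≫ g')
      dsimp only [Comm] at hs₁ hs₂ ⊢
      rw [← sub_eq_zero]
      have hd : (F.map f ≫ e L hL - e K hK ≫ F'.map f) ≫ F'.map g' = 0 := by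
        rw [Preadditive.sub_comp, Category.assoc, Category.assoc, ← hs₁, ← Functor.map_comp_assoc,
          ← Functor.map_comp, hs₂, sub_self]
      obtain ⟨v, hv⟩ := Triangle.coyoneda_exact₂ _ (F'.map_distinguished _ hT') _ hd
      rw [zero_of_negative σ hzK v] at hv
      exact hv.trans zero_comp
    · rcases lt_or_eq_of_le h₂ with hcb | rfl
      · have hW : InW a (b - 1) ((sF A c).obj X) := (inW_single c X).mono h₁ (by omega)
        have hs := star _ hX _ hW (𝟙 _)
        rw [ht.ext c h₁ (by omega) X hW] at hs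
        exact ((congrArg (e _ hX ≫ ·) (F'.map_id _)).trans (Category.comp_id _)).symm.trans
          (hs.symm.trans ((congrArg (· ≫ sig σ c X) (F.map_id _)).trans (Category.id_comp _)))
      · have h₁' := he₁ _ hX
        have h₂' := comm_same σ (p _ hX)
        dsimp only [Comm] at h₁' h₂'
        have hd : (F.mapTriangle.obj (Triangle.mk (p _ hX) (g _ hX) (h _ hX))).mor₁ ≫
            (e _ hX - sig σ c X) = 0 := by
          change F.map (p _ hX) ≫ _ = 0
          rw [Preadditive.comp_sub, sub_eq_zero]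
          exact h₁'.trans h₂'.symm
        obtain ⟨v, hv⟩ := Triangle.yoneda_exact₂ _ (F.map_distinguished _ (hT _ hX)) _ hd
        have hv0 : v = 0 := by
          refine (cancel_mono (inv (sig σ c X))).1 (Eq.trans ?_ zero_comp.symm)
          obtain ⟨w, hw⟩ := F.map_surjective (v ≫ inv (sig σ c X))
          rw [show w = 0 from @Triangulated.TStructure.zero _ _ _ _ _ _ _ (tb A) _ _ w (c - 1) c
            (by omega) (hC _ hX) (sF_isGE c X), F.map_zero] at hw
          exact hw.symm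
        rw [hv0] at hv
        exact sub_eq_zero.1 (hv.trans comp_zero)
    · have hres := huniq _ (ht'.restrict σ le_rfl (by omega : b - 1 ≤ b))
      funext K hK
      have hW := hW₀ K hK
      have h₁ := ht'.natural K _ hK (hW.mono le_rfl (by omega)) (g K hK)
      have h₀ : t' (C K hK) (hW.mono le_rfl (by omega)) = t (C K hK) hW :=
        congrFun (congrFun hres (C K hK)) hW
      rw [h₀] at h₁
      have h₂ := he₂ K hK
      dsimp only [Comm] at h₁ h₂
      have hd : (t' K hK - e K hK) ≫ F'.map (g K hK) = 0 := by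
        rw [Preadditive.sub_comp, sub_eq_zero]
        exact h₁.symm.trans h₂
      obtain ⟨v, hv⟩ := Triangle.coyoneda_exact₂ _ (F'.map_distinguished _ (hT K hK)) _ hd
      rw [zero_of_negative σ (hz K hK) v] at hv
      exact sub_eq_zero.1 (hv.trans zero_comp)

include σ in
theorem nonempty_iso [F.Full] [F.Faithful] [IsTriangulated (DerivedCategory.Bounded A)]
    (hneg : EnoughNegative A) : Nonempty (F ≅ F') := by
  choose a b hab hga hgb using fun K : DerivedCategory.Bounded A => exists_window K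
  have hex : ∀ a b : ℤ, a ≤ b →
      ∃ t : ∀ K : DerivedCategory.Bounded A, InW a b K → (F.obj K ⟶ F'.obj K),
        WinNat σ a b t ∧ (∀ K hK, IsIso (t K hK)) ∧ ∀ t', WinNat σ a b t' → t' = t := by
    intro a b h
    obtain ⟨n, hn⟩ := Int.le.dest h
    exact exists_unique_winNat σ hneg n a b hn
  choose t ht hiso huniq using hex
  have hcompat : ∀ (a b a' b' : ℤ) (h : a ≤ b) (h' : a' ≤ b') (ha : a' ≤ a) (hb : b ≤ b')
      (K : DerivedCategory.Bounded A) (hK : InW a b K),
      t a b h K hK = t a' b' h' K (hK.mono ha hb) := fun a b a' b' h h' ha hb K hK =>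
    (congrFun (congrFun (huniq a b h _ ((ht a' b' h').restrict σ ha hb)) K) hK).symm
  refine ⟨NatIso.ofComponents (fun K =>
    @asIso _ _ _ _ (t (a K) (b K) (hab K) K ⟨hga K, hgb K⟩) (hiso _ _ _ _ _)) (fun {K L} f => ?_)⟩
  have hm : min (a K) (a L) ≤ max (b K) (b L) :=
    (min_le_left _ _).trans ((hab K).trans (le_max_left _ _))
  dsimp
  rw [hcompat _ _ _ _ (hab K) hm (min_le_left _ _) (le_max_left _ _) K ⟨hga K, hgb K⟩,
    hcompat _ _ _ _ (hab L) hm (min_le_right _ _) (le_max_right _ _) L ⟨hga L, hgb L⟩]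
  exact (ht _ _ hm).natural K L _ _ f

end Groth.Agent.Sib9
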